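import Cfsg.Agent.H6.Chain
import Cfsg.Prelude.Def_Spor_Th

set_option autoImplicit false
set_option maxRecDepth 100000
set_option Elab.async false

namespace Cfsg.H6.Th

def L : List (FreeGroup Spor.Th.Gen) := [1, Spor.Th.a, Spor.Th.b, Spor.Th.c, Spor.Th.d, Spor.Th.e, Spor.Th.s, Spor.Th.s⁻¹, Spor.Th.t, Spor.Th.t⁻¹, Spor.Th.u, Spor.Th.u⁻¹]

def idx : Spor.Th.Gen → ℕ
  | .a => 1
  | .b => 2
  | .c => 3
  | .d => 4
  | .e => 5
  | .s => 6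
  | .t => 8
  | .u => 10

def R : List (List ℕ) := [[1,1], [2,2], [3,3], [4,4], [5,5], [1,2,1,2,1,2], [1,5,1,5], [2,3,2,3,2,3], [2,4,2,4], [2,5,2,5], [1,4,3,4,3,4,3,4,3], [3,5,3,5], [4,5,4,5,4,5], [2,3,4,5,2,3,4,5,2,3,4,5,2,3,4,5,2,3,4,5,2,3,4,5,2,3,4,5,2,3,4,5], [6,6,6,6,6,6,6], [7,1,6,1], [7,2,6,2], [7,3,6,3], [6,4,6,4], [5,7,5,6,7,7,7,5,6,6,6], [8,8,8], [9,1,8,1], [9,2,8,2], [9,3,8,3], [9,4,8,4], [9,5,8,5], [9,6,8,7,7], [10,10,3,1], [11,1,10,1], [11,3,10,3], [11,5,10,5], [4,5,11,4,10,4,5,11,4,10], [11,2,3,1,2,10,2,1,3,2,5], [4,11,4,2,3,1,2,4,10,4,2,1,3,2,3,5,4,11,4,2,3,1,2,5,11], [11,8,10,8], [5,7,7,11,6,6,5,7,7,10,6,6], [1,3,7,11,7,11,7,11], [1,3,7,11,6,10,7,11,6,10,7,11,6,10,7,11,6,10], [4,7,7,10,6,6,4,7,7,10,6,6,4,7,7,10,6,6,4,7,7,10,6,6,7,7,5,4,3,4,5,6,6,6,5,4,3,4,5,7,4,3,4,3,1]]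

def X : List (List ℕ) := [[1], [2], [3], [4], [5], [6], [8], [10]]

theorem hP : presOK Spor.Th.edges Spor.Th.extra L idx 3108186227616092632570265856 R = true := by decide +kernel

theorem hidx : ∀ a, L.getD (idx a) 1 = FreeGroup.of a := by intro a; cases a <;> rfl

/-- The letters of the presented group. -/
def ev : ℕ → Spor.Th := evP Spor.Th.edges Spor.Th.extra L

theorem hev : Good ev 3108186227616092632570265856 := presOK_good hP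

theorem hR : Rels ev R := presOK_rels hP hidx

theorem hX : gen ev X = ⊤ := gen_eq_top hidx (by intro a; cases a <;> decide)

theorem lift {G : Type*} [Group G] {ev' : ℕ → G} (h : Good ev' 3108186227616092632570265856) (h' : Rels ev' R) :
    ∃ φ : Spor.Th →* G, ∀ l, φ (ev l) = ev' l := presOK_lift hP h h'

end Cfsg.H6.Th
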