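import Cfsg.Agent.H6.Th.D.Main
import Cfsg.Agent.H6.Th.C0.Main
import Cfsg.Agent.H6.Th.C1.Main
import Cfsg.Agent.H6.Th.M.Main

set_option autoImplicit false
set_option maxRecDepth 100000
set_option Elab.async false

namespace Cfsg.H6.Th

def R2 : List (List ℕ) := R ++ (C0.T.map Prod.snd ++ C1.T.map Prod.snd)

theorem hR2 : Rels ev R2 :=
  rels_app hR (rels_app (rels_of_mem_nil (C0.mem hev hR)) (rels_of_mem_nil (C1.mem hev hR)))

def sg : List (List ℕ) := [[], [1], [2], [3], [4], [5], [6], [7], [8], [9], [2,1,3,2], [4,3,4], [6,6,5,7,7], [2,1,3,2,4,3,4,5,4,3,2,1,4,3,2,4,3,4]]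

theorem lift1 : ∃ θ : H.Grp →* Spor.Th, ∀ l, θ (H.ev l) = evS ev sg l :=
  H.lift (good_evS hev hR2 (by decide +kernel)) (rels_evS_cyc hev hR2 (by decide +kernel))

/-- The map from the model of the subgroup. -/
noncomputable def θ : H.Grp →* Spor.Th := lift1.choose

theorem hθ : ∀ l, θ (H.ev l) = evS ev sg l := lift1.choose_spec

def sg2 : List (List ℕ) := sg ++ [[10], [11]]

theorem hθ' : ∀ l, 1 ≤ l → l < 14 → θ (H.ev l) = evS ev sg2 l :=
  fun l _ h => by rw [hθ, sg2, evS_append ev sg _ h]

theorem hyp : D.D.Hyp (evS ev sg2) θ.range :=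
  Dce.hyp_of hev hR2 (by decide +kernel) (Dce.chk_of hθ' H.ora)
    (Dce.ax_range (D := D.D) hθ' (by decide +kernel))

theorem hU : ∀ x, D.D.InU (evS ev sg2) θ.range θ (D.E.map Prod.fst) x :=
  Dce.all_inU ⟨0, by decide +kernel, by decide +kernel⟩ (D.hT (D.model hθ') hyp)
    (Dce.hinv (D.model hθ') hyp (a := [1, 3]) (b := []) (by decide +kernel))
    (X := [[1], [2], [3], [4], [5], [6], [8], [14]]) (by rw [gen_evS]; exact hX)
    (Dce.hgen (D.model hθ') (by decide +kernel))

theorem cover : Cover θ.range ⊤ 143127000 := Dce.cover D.E (D.hE (D.model hθ') hyp) hU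

theorem ubH : UB θ.range 634023936 := by
  have := H.finite
  exact UB.range θ H.card

theorem ub : UB (⊤ : Subgroup Spor.Th) 90745943887872000 := ubH.cover cover

theorem finite : Finite Spor.Th := ub.top.1

theorem main : Nat.card Spor.Th = 90745943887872000 ∧ Function.Injective M.μ := card_of_kq ub M.dv

theorem exact : θ.range.index = 143127000 ∧ Nat.card θ.range = 634023936 := by
  have := finite
  exact exact_of_cover cover ubH main.1

def Ws : List (List ℕ) := [[1], [2], [3], [4], [5], [6], [8]]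

theorem range_eq : θ.range = gen ev Ws := by
  rw [range_eq_genS hθ (top_le_iff.mp H.top)]
  congr 1

theorem coatom : IsCoatom θ.range :=
  Dce.isCoatom D.E (D.hE (D.model hθ') hyp) hU (fun p => ⟨p, rfl⟩) exact.1 (by norm_num)
    (by decide +kernel)

theorem simple : IsSimpleGroup Spor.Th := by
  have := finite
  have : Nontrivial Spor.Th := Finite.one_lt_card_iff_nontrivial.mp (by rw [main.1]; norm_num)
  refine isSimple_of_contains hX fun N _ hN => M.kill main.2 N ?_
  exact mem_normal_of_coatom coatom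
    (fun h => hN (D.core (D.model hθ') hyp hU exact.1 N h)) (p := 31) (k := 1) (j := 1)
    (by norm_num) (by rw [exact.1]; norm_num) (by rw [main.1]; norm_num) (M.powx main.2)

end Cfsg.H6.Th
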